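import Cfsg.Agent.H352.KS.Defs
import Cfsg.Agent.H215.KS.Dfour

/-!
# S4577, rows `PSp_2m(q)`, `POmega_n(q)`: the preimage of `D` is abelian (helper5)

`D̂ = π⁻¹(D)`.  Squares and commutators of `D̂` are `±1`.  If `D̂` is not abelian there are `v, v' ∈ D̂`, commuting, of
square `-1`, conjugate under `X` up to sign, and `u = (1 + v)(1 + v')/2` is in `X`, normalises `D̂` and commutes with
the lift of `x`.
-/

set_option autoImplicit false

open Cfsg Cfsg.Agent.H613.KS Cfsg.Agent.H352.KS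

namespace Cfsg.Agent.H5.KS

/-! ### signs in a ring -/

section Sgn

variable {R : Type*} [Ring R] {a w z : R}

theorem anti_anti (h1 : w * a = -(a * w)) (h2 : z * a = -(a * z)) : w * z * a = a * (w * z) := by
  rw [mul_assoc, h2, mul_neg, ← mul_assoc, h1, neg_mul, neg_neg, mul_assoc]

theorem comm_anti (h1 : w * a = a * w) (h2 : z * a = -(a * z)) : w * z * a = -(a * (w * z)) := by
  rw [mul_assoc, h2, mul_neg, ← mul_assoc, h1, mul_assoc]

theorem sq_anti (h1 : w * a = -(a * w)) : a * w * (a * w) = -(a * a * (w * w)) := by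
  rw [mul_assoc, ← mul_assoc w, h1, neg_mul, mul_neg, mul_assoc a w w, ← mul_assoc a a]

theorem sq_comm (h1 : w * a = a * w) : a * w * (a * w) = a * a * (w * w) := by
  rw [mul_assoc, ← mul_assoc w, h1, mul_assoc a w w, ← mul_assoc a a]

/-- five pairwise anticommuting elements of square `-1` -/
theorem five_sq {v : ℕ → R} (hs : ∀ i, v i * v i = -1) (h : ∀ i j, i < j → j ≤ 4 → v j * v i = -(v i * v j)) :
    v 0 * (v 1 * (v 2 * (v 3 * v 4))) * (v 0 * (v 1 * (v 2 * (v 3 * v 4)))) = -1 := by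
  have a1 : v 3 * v 4 * (v 3 * v 4) = -1 := by
    rw [sq_anti (h 3 4 (by norm_num) (by norm_num)), hs, hs]; norm_num
  have a2 : v 2 * (v 3 * v 4) * (v 2 * (v 3 * v 4)) = 1 := by
    rw [sq_comm (anti_anti (h 2 3 (by norm_num) (by norm_num)) (h 2 4 (by norm_num) (by norm_num))), hs, a1]
    norm_num
  have a3 : v 1 * (v 2 * (v 3 * v 4)) * (v 1 * (v 2 * (v 3 * v 4))) = 1 := by
    have e : v 2 * (v 3 * v 4) * v 1 = -(v 1 * (v 2 * (v 3 * v 4))) := by
      have e1 := anti_anti (h 1 3 (by norm_num) (by norm_num)) (h 1 4 (by norm_num) (by norm_num))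
      rw [mul_assoc, e1, ← mul_assoc, h 1 2 (by norm_num) (by norm_num), neg_mul, mul_assoc]
    rw [sq_anti e, hs, a2]
    norm_num
  have e : v 1 * (v 2 * (v 3 * v 4)) * v 0 = v 0 * (v 1 * (v 2 * (v 3 * v 4))) := by
    have e1 := anti_anti (h 0 3 (by norm_num) (by norm_num)) (h 0 4 (by norm_num) (by norm_num))
    have e2 := anti_anti (h 0 1 (by norm_num) (by norm_num)) (h 0 2 (by norm_num) (by norm_num))
    calc v 1 * (v 2 * (v 3 * v 4)) * v 0 = v 1 * v 2 * (v 3 * v 4 * v 0) := by noncomm_ring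
      _ = v 1 * v 2 * v 0 * (v 3 * v 4) := by rw [e1]; noncomm_ring
      _ = v 0 * (v 1 * (v 2 * (v 3 * v 4))) := by rw [e2]; noncomm_ring
  rw [sq_comm e, hs, a3]
  norm_num

end Sgn

section Main

variable {R S : Type} [Ring R] [Group S] {σ : R →+ R} {I X : Subgroup Rˣ} {π : X →* S} {D : Subgroup S} {x y : S}

/-- the value in the ring -/
def cc (g : X) : R := ((g : Rˣ) : R)

theorem cc_mul (a b : X) : cc (a * b) = cc a * cc b := rfl

theorem cc_one : cc (1 : X) = 1 := rfl

theorem cc_inj {a b : X} (h : cc a = cc b) : a = b := Subtype.ext (Units.ext h)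

theorem cc_mul_inv (a : X) : cc a * cc a⁻¹ = 1 := by rw [← cc_mul, mul_inv_cancel, cc_one]

theorem cc_inv_mul (a : X) : cc a⁻¹ * cc a = 1 := by rw [← cc_mul, inv_mul_cancel, cc_one]

theorem cc_conj (g a : X) : cc (g * a * g⁻¹) = cc g * cc a * cc g⁻¹ := rfl

/-- conjugation preserves squares `-1` -/
theorem sq_conj {g a : X} (h : cc a * cc a = -1) : cc (g * a * g⁻¹) * cc (g * a * g⁻¹) = -1 := by
  rw [← cc_mul]
  have e : g * a * g⁻¹ * (g * a * g⁻¹) = g * (a * a) * g⁻¹ := by group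
  rw [e, cc_mul, cc_mul, cc_mul, h, mul_neg, mul_one, neg_mul, cc_mul_inv]

theorem anti_conj {g a b : X} (h : cc a * cc b = -(cc b * cc a)) :
    cc (g * a * g⁻¹) * cc (g * b * g⁻¹) = -(cc (g * b * g⁻¹) * cc (g * a * g⁻¹)) := by
  have e1 : cc (g * a * g⁻¹) * cc (g * b * g⁻¹) = cc g * (cc a * cc b) * cc g⁻¹ := by
    rw [← cc_mul, ← cc_mul, ← cc_mul, ← cc_mul]
    congr 1; group
  have e2 : cc (g * b * g⁻¹) * cc (g * a * g⁻¹) = cc g * (cc b * cc a) * cc g⁻¹ := by
    rw [← cc_mul, ← cc_mul, ← cc_mul, ← cc_mul]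
    congr 1; group
  rw [e1, e2, h, mul_neg, neg_mul]

variable (hF : Frame σ I X π)

include hF

theorem same {a b : X} (h : π a = π b) : cc a = cc b ∨ cc a = -cc b := by
  have h1 : π (a * b⁻¹) = 1 := by rw [map_mul, map_inv, h, mul_inv_cancel]
  have h2 : cc a = cc (a * b⁻¹) * cc b := by rw [← cc_mul, inv_mul_cancel_right]
  rcases hF.ker _ h1 with h3 | h3
  · left
    have h3' : cc (a * b⁻¹) = 1 := h3
    rw [h2, h3', one_mul]
  · right
    have h3' : cc (a * b⁻¹) = -1 := h3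
    rw [h2, h3', neg_mul, one_mul]

theorem sq_or (hD : E16 D) {a : X} (ha : π a ∈ D) : cc a * cc a = 1 ∨ cc a * cc a = -1 := by
  rw [← cc_mul]
  exact hF.ker (a * a) (by rw [map_mul]; exact hD.inv _ ha)

theorem comm_or (hD : E16 D) {a b : X} (ha : π a ∈ D) (hb : π b ∈ D) :
    cc a * cc b = cc b * cc a ∨ cc a * cc b = -(cc b * cc a) := by
  rw [← cc_mul, ← cc_mul]
  apply same hF
  rw [map_mul, map_mul]
  exact H215.KS.E16.comm hD _ ha _ hb

/-- a non central element has an anticommuting partner -/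
theorem exists_anti (hD : E16 D) (hy : Five D y) (hna : ∃ a b : X, π a ∈ D ∧ π b ∈ D ∧ a * b ≠ b * a) {a : X}
    (ha : π a ∈ D) (ha1 : π a ≠ 1) : ∃ b, π b ∈ D ∧ cc a * cc b = -(cc b * cc a) := by
  by_contra hno
  push Not at hno
  let A : Subgroup S :=
    { carrier := {d | d ∈ D ∧ ∀ a b : X, π a = d → π b ∈ D → a * b = b * a}
      one_mem' := by
        refine ⟨D.one_mem, fun a b h1 hb => ?_⟩
        have h2 : cc a = 1 ∨ cc a = -1 := hF.ker a h1
        apply cc_inj
        rw [cc_mul, cc_mul]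
        rcases h2 with h2 | h2 <;> rw [h2] <;> simp
      mul_mem' := by
        rintro d e ⟨hd, hd'⟩ ⟨he, he'⟩
        refine ⟨D.mul_mem hd he, fun a b h1 hb => ?_⟩
        obtain ⟨a1, ha1⟩ := hF.surj d
        have h3 : π (a1⁻¹ * a) = e := by rw [map_mul, map_inv, ha1, h1, inv_mul_cancel_left]
        have h4 := hd' a1 b ha1 hb
        have h5 := he' (a1⁻¹ * a) b h3 hb
        calc a * b = a1 * (a1⁻¹ * a * b) := by group
          _ = a1 * b * (a1⁻¹ * a) := by rw [h5, mul_assoc]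
          _ = b * a := by rw [h4]; group
      inv_mem' := by
        rintro d ⟨hd, hd'⟩
        refine ⟨D.inv_mem hd, fun a b h1 hb => ?_⟩
        have h3 : π a⁻¹ = d := by rw [map_inv, h1, inv_inv]
        have h4 := hd' a⁻¹ b h3 hb
        calc a * b = a * (b * a⁻¹) * a := by group
          _ = b * a := by rw [← h4]; group }
  have hA : ∀ d, d ∈ A ↔ d ∈ D ∧ ∀ a b : X, π a = d → π b ∈ D → a * b = b * a := fun d => Iff.rfl
  obtain ⟨Y, hY⟩ := hF.surj y
  rcases hy.irr A (fun d hd => hd.1) (by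
    rintro d ⟨hd, hd'⟩
    refine (hA _).2 ⟨(hy.norm d).2 hd, fun a b h1 hb => ?_⟩
    have h3 : π (Y⁻¹ * a * Y) = d := by rw [map_mul, map_mul, map_inv, h1, hY]; group
    have h4 : π (Y⁻¹ * b * Y) ∈ D := by
      rw [← hy.norm, map_mul, map_mul, map_inv, hY]
      have : y * (y⁻¹ * π b * y) * y⁻¹ = π b := by group
      rw [this]; exact hb
    have h5 := hd' _ _ h3 h4
    calc a * b = Y * (Y⁻¹ * a * Y * (Y⁻¹ * b * Y)) * Y⁻¹ := by group
      _ = b * a := by rw [h5]; group) with h | h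
  · -- the radical is trivial
    have h1 : π a ∈ A := by
      refine (hA _).2 ⟨ha, fun a' b h1 hb => ?_⟩
      have h2 : cc a * cc b = cc b * cc a := (comm_or hF hD ha hb).resolve_right (hno b hb)
      apply cc_inj
      rw [cc_mul, cc_mul]
      rcases same hF h1 with h3 | h3
      · rw [h3, h2]
      · rw [h3, neg_mul, h2, mul_neg]
    rw [h] at h1
    exact ha1 (Subgroup.mem_bot.1 h1)
  · obtain ⟨a, b, ha, hb, hab⟩ := hna
    rw [← h] at ha
    exact hab (ha.2 a b rfl hb)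

/-- a lift of `x` commutes with the preimage of `D` -/
theorem comm_x (hne : (1 : R) ≠ -1) (hx : Cfg D x) {x' : X} (hx' : π x' = x) {d : X} (hd : π d ∈ D) :
    cc x' * cc d = cc d * cc x' := by
  have h1 : cc (x' * d) = cc (d * x') ∨ cc (x' * d) = -cc (d * x') :=
    same hF (by rw [map_mul, map_mul, hx', hx.comm _ hd])
  rw [cc_mul, cc_mul] at h1
  refine h1.resolve_right fun h2 => hne ?_
  have h3 : ∀ n : ℕ, cc (x' ^ n) * cc d = (-1) ^ n * (cc d * cc (x' ^ n)) := by
    intro n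
    induction n with
    | zero => rw [pow_zero, pow_zero, cc_one]; simp
    | succ n ih =>
      rw [pow_succ', cc_mul, mul_assoc, ih, pow_succ']
      have e : cc x' * ((-1) ^ n * (cc d * cc (x' ^ n))) = (-1) ^ n * (cc x' * cc d * cc (x' ^ n)) := by
        have h4 : Commute (cc x') ((-1 : R) ^ n) := ((Commute.one_right (cc x')).neg_right).pow_right n
        rw [← mul_assoc, h4.eq, mul_assoc, mul_assoc]
      rw [e, h2, neg_mul, mul_neg, neg_mul, one_mul, neg_mul, mul_assoc (cc d)]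
  have h5 : π (x' ^ orderOf x) = 1 := by rw [map_pow, hx', pow_orderOf_eq_one]
  have h6 := h3 (orderOf x)
  rw [hx.odd.neg_one_pow] at h6
  have h7 : cc (x' ^ orderOf x) = 1 ∨ cc (x' ^ orderOf x) = -1 := hF.ker _ h5
  have h8 : cc d = -cc d := by
    rcases h7 with h7 | h7
    · rw [h7] at h6; simpa using h6
    · rw [h7] at h6
      simp only [neg_mul, one_mul, mul_neg, mul_one, neg_neg] at h6
      exact h6.symm
  calc (1 : R) = cc d * cc d⁻¹ := (cc_mul_inv d).symm
    _ = -cc d * cc d⁻¹ := by rw [← h8]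
    _ = -1 := by rw [neg_mul, cc_mul_inv]

/-- an element of square `-1` -/
theorem exists_neg (hD : E16 D)
    (hna : ∃ a b : X, π a ∈ D ∧ π b ∈ D ∧ a * b ≠ b * a) : ∃ v, π v ∈ D ∧ cc v * cc v = -1 := by
  obtain ⟨a, b, ha, hb, hab⟩ := hna
  by_contra hno
  push Not at hno
  have h1 := (sq_or hF hD ha).resolve_right (hno a ha)
  have h2 := (sq_or hF hD hb).resolve_right (hno b hb)
  have hab' : π (a * b) ∈ D := by rw [map_mul]; exact D.mul_mem ha hb
  have h3 := (sq_or hF hD hab').resolve_right (hno _ hab')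
  apply hab
  have e1 : a * a = 1 := cc_inj (by rw [cc_mul, cc_one]; exact h1)
  have e2 : b * b = 1 := cc_inj (by rw [cc_mul, cc_one]; exact h2)
  have e3 : a * b * (a * b) = 1 := cc_inj (by rw [cc_mul, cc_one]; exact h3)
  calc a * b = b * b * (a * b) * (a * a) := by rw [e1, e2]; group
    _ = b * (b * a * (b * a)) * a := by group
    _ = b * (a⁻¹ * (a * b * (a * b)) * a) * a := by group
    _ = b * a := by rw [e3]; group

/-- a commuting conjugate of square `-1` -/
theorem exists_pair [Finite S] (hne : (1 : R) ≠ -1) (hD : E16 D) (hy : Five D y) {v : X} (hv : π v ∈ D)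
    (hvv : cc v * cc v = -1) :
    ∃ g : X, (∀ d : X, π d ∈ D → π (g * d * g⁻¹) ∈ D) ∧ cc v * cc (g * v * g⁻¹) = cc (g * v * g⁻¹) * cc v ∧
      π (g * v * g⁻¹) ≠ π v := by
  obtain ⟨Y, hY⟩ := hF.surj y
  obtain ⟨h5, hfix, hprod, -⟩ := H215.KS.D4 hD hy
  have hv1 : π v ≠ 1 := by
    intro h1
    have h2 : cc v = 1 ∨ cc v = -1 := hF.ker v h1
    apply hne
    rcases h2 with h2 | h2 <;> rw [h2] at hvv <;> simpa using hvv
  -- the conjugates
  obtain ⟨w, hw⟩ : ∃ w : ℕ → X, ∀ i, w i = Y ^ i * v * (Y ^ i)⁻¹ := ⟨_, fun _ => rfl⟩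
  have hπw : ∀ i, π (w i) = y ^ i * π v * (y ^ i)⁻¹ := fun i => by
    rw [hw, map_mul, map_mul, map_inv, map_pow, hY]
  have hyD : ∀ i : ℕ, ∀ d ∈ D, y ^ i * d * (y ^ i)⁻¹ ∈ D := by
    intro i
    induction i with
    | zero => intro d hd; simpa using hd
    | succ i ih =>
      intro d hd
      have e : y ^ (i + 1) * d * (y ^ (i + 1))⁻¹ = y * (y ^ i * d * (y ^ i)⁻¹) * y⁻¹ := by
        rw [pow_succ']; group
      rw [e]
      exact (hy.norm _).2 (ih d hd)
  have hnorm : ∀ i : ℕ, ∀ d : X, π d ∈ D → π (Y ^ i * d * (Y ^ i)⁻¹) ∈ D := by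
    intro i d hd
    rw [map_mul, map_mul, map_inv, map_pow, hY]
    exact hyD i _ hd
  have hwD : ∀ i, π (w i) ∈ D := fun i => by rw [hw]; exact hnorm i v hv
  have hws : ∀ i, cc (w i) * cc (w i) = -1 := fun i => by rw [hw]; exact sq_conj hvv
  have hper : ∀ i, π (w (i + 5)) = π (w i) := by
    intro i
    rw [hπw, hπw, pow_add]
    have h1 : y ^ 5 * π v * (y ^ 5)⁻¹ = π v := by rw [h5 _ hv]; group
    calc y ^ i * y ^ 5 * π v * (y ^ i * y ^ 5)⁻¹ = y ^ i * (y ^ 5 * π v * (y ^ 5)⁻¹) * (y ^ i)⁻¹ := by group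
      _ = _ := by rw [h1]
  by_cases hc1 : cc v * cc (w 1) = cc (w 1) * cc v
  · refine ⟨Y ^ 1, hnorm 1, by rw [← hw]; exact hc1, ?_⟩
    rw [← hw, hπw]
    intro h1
    apply hfix _ hv hv1
    calc y * π v = y ^ 1 * π v * (y ^ 1)⁻¹ * y := by group
      _ = π v * y := by rw [h1]
  by_cases hc2 : cc v * cc (w 2) = cc (w 2) * cc v
  · refine ⟨Y ^ 2, hnorm 2, by rw [← hw]; exact hc2, ?_⟩
    rw [← hw, hπw]
    intro h1
    apply hfix _ hv hv1
    have h2 : Commute (y ^ 2) (π v) := by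
      show y ^ 2 * π v = π v * y ^ 2
      calc y ^ 2 * π v = y ^ 2 * π v * (y ^ 2)⁻¹ * y ^ 2 := by group
        _ = π v * y ^ 2 := by rw [h1]
    have h3 : Commute (y ^ 5) (π v) := h5 _ hv
    have h4 : Commute (y ^ 5 * ((y ^ 2) ^ 2)⁻¹) (π v) := h3.mul_left (h2.pow_left 2).inv_left
    have e : y ^ 5 * ((y ^ 2) ^ 2)⁻¹ = y := by group
    rw [e] at h4
    exact h4
  exfalso
  have a1 : cc v * cc (w 1) = -(cc (w 1) * cc v) := (comm_or hF hD hv (hwD 1)).resolve_left hc1
  have a2 : cc v * cc (w 2) = -(cc (w 2) * cc v) := (comm_or hF hD hv (hwD 2)).resolve_left hc2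
  have hsh : ∀ i j : ℕ, w (i + j) = Y ^ i * w j * (Y ^ i)⁻¹ := by
    intro i j
    rw [hw, hw, pow_add]; group
  have hw0 : w 0 = v := by rw [hw]; group
  have b1 : ∀ i, cc (w i) * cc (w (i + 1)) = -(cc (w (i + 1)) * cc (w i)) := by
    intro i
    rw [hsh i 1, hw i]
    exact anti_conj a1
  have b2 : ∀ i, cc (w i) * cc (w (i + 2)) = -(cc (w (i + 2)) * cc (w i)) := by
    intro i
    rw [hsh i 2, hw i]
    exact anti_conj a2
  have tr : ∀ {a b b' : X}, π b' = π b → cc a * cc b' = -(cc b' * cc a) → cc a * cc b = -(cc b * cc a) := by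
    intro a b b' h h1
    rcases same hF h with h2 | h2
    · rw [h2] at h1; exact h1
    · rw [h2, mul_neg, neg_mul, neg_neg] at h1
      rw [← h1, neg_neg]
  have sw : ∀ {a b : X}, cc a * cc b = -(cc b * cc a) → cc b * cc a = -(cc a * cc b) := by
    intro a b h
    rw [h, neg_neg]
  have c30 := tr (hper 0) (b2 3)
  have c40 := tr (hper 0) (b1 4)
  have c41 := tr (hper 1) (b2 4)
  have hall : ∀ i j, i < j → j ≤ 4 → cc (w j) * cc (w i) = -(cc (w i) * cc (w j)) := by
    intro i j hij hj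
    interval_cases j <;> interval_cases i
    · exact sw (b1 0)
    · exact sw (b2 0)
    · exact sw (b1 1)
    · exact c30
    · exact sw (b2 1)
    · exact sw (b1 2)
    · exact c40
    · exact c41
    · exact sw (b2 2)
    · exact sw (b1 3)
  have h6 := five_sq (v := fun i => cc (w i)) hws hall
  -- the product is `±1`
  have h7 : π (w 0 * (w 1 * (w 2 * (w 3 * w 4)))) = 1 := by
    simp only [map_mul, hπw]
    rw [← hprod _ hv]
    group
  have h8 : cc (w 0 * (w 1 * (w 2 * (w 3 * w 4)))) = 1 ∨ cc (w 0 * (w 1 * (w 2 * (w 3 * w 4)))) = -1 :=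
    hF.ker _ h7
  simp only [cc_mul] at h8
  apply hne
  rcases h8 with h8 | h8
  · simp only [h8, mul_one] at h6
    exact h6
  · simp only [h8, mul_neg, mul_one, neg_neg] at h6
    exact h6

end Main

section Fin

variable {R S : Type} [Ring R] [Group S] {σ : R →+ R} {I X : Subgroup Rˣ} {π : X →* S} {D : Subgroup S} {x y : S}

/-- the element `u = h (1 + v)(1 + v')`, `2 h = 1` -/
theorem exists_u (hF : Frame σ I X π) {h : R} (hc : ∀ r, h * r = r * h) (h2 : h * 2 = 1) {v v' g : X}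
    (hv : cc v * cc v = -1) (hg : cc g * cc v = -(cc v' * cc g)) : ∃ u : X, cc u = h * ((1 + cc v) * (1 + cc v')) := by
  have hσ : σ (cc v) * cc v = 1 := (hF.mem _).1 (hF.le v.2)
  have hσ' : σ (cc v) = -cc v := by
    calc σ (cc v) = σ (cc v) * (cc v * -cc v) := by rw [mul_neg, hv, neg_neg, mul_one]
      _ = -cc v := by rw [← mul_assoc, hσ, one_mul]
  have e1 : (1 + cc v) * (h * (1 - cc v)) = 1 := by
    calc (1 + cc v) * (h * (1 - cc v)) = (1 + cc v) * h * (1 - cc v) := by rw [mul_assoc]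
      _ = h * ((1 + cc v) * (1 - cc v)) := by rw [← hc, mul_assoc]
      _ = h * (1 - cc v * cc v) := by congr 1; noncomm_ring
      _ = 1 := by rw [hv, sub_neg_eq_add, one_add_one_eq_two, h2]
  have e2 : h * (1 - cc v) * (1 + cc v) = 1 := by
    calc h * (1 - cc v) * (1 + cc v) = h * (1 - cc v * cc v) := by rw [mul_assoc]; congr 1; noncomm_ring
      _ = 1 := by rw [hv, sub_neg_eq_add, one_add_one_eq_two, h2]
  let s : Rˣ := ⟨1 + cc v, h * (1 - cc v), e1, e2⟩
  have hs : σ (s : R) * s = 2 := by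
    show σ (1 + cc v) * (1 + cc v) = 2
    rw [map_add, hF.one, hσ']
    calc (1 + -cc v) * (1 + cc v) = 1 - cc v * cc v := by noncomm_ring
      _ = 2 := by rw [hv]; norm_num
  have h3 := hF.sim s hs g g.2
  refine ⟨⟨_, h3⟩ * g⁻¹, ?_⟩
  show (1 + cc v) * cc g * (h * (1 - cc v)) * cc g⁻¹ = _
  have e3 : cc g * (1 - cc v) = (1 + cc v') * cc g := by
    rw [mul_sub, mul_one, hg, sub_neg_eq_add, add_mul, one_mul]
  calc (1 + cc v) * cc g * (h * (1 - cc v)) * cc g⁻¹ = (1 + cc v) * (cc g * h) * (1 - cc v) * cc g⁻¹ := by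
        noncomm_ring
    _ = (1 + cc v) * h * (cc g * (1 - cc v)) * cc g⁻¹ := by rw [← hc]; noncomm_ring
    _ = (1 + cc v) * h * (1 + cc v') * (cc g * cc g⁻¹) := by rw [e3]; noncomm_ring
    _ = h * ((1 + cc v) * (1 + cc v')) := by rw [cc_mul_inv, mul_one, ← hc, mul_assoc]

/-- the four cases of the action of `u` -/
theorem act_u {h a b d u : R} (hc : ∀ r, h * r = r * h) (ha : a * a = -1) (hb : b * b = -1) (hab : a * b = b * a)
    (hu : u = h * ((1 + a) * (1 + b))) :
    (a * d = d * a → b * d = d * b → u * d = d * u) ∧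
    (a * d = -(d * a) → b * d = d * b → u * d = a * d * u) ∧
    (a * d = d * a → b * d = -(d * b) → u * d = b * d * u) ∧
    (a * d = -(d * a) → b * d = -(d * b) → u * d = a * b * d * u) := by
  subst hu
  have hd : ∀ r s : R, r * (h * s) = h * (r * s) := fun r s => by rw [← mul_assoc, ← hc, mul_assoc]
  have key : ∀ {s : R}, s * s = -1 → ∀ {t : R}, s * t = -(t * s) → s * t * (1 + s) = (1 + s) * t := by
    intro s hs t ht
    rw [mul_add, mul_one, add_mul, one_mul, mul_assoc, show t * s = -(s * t) by rw [ht, neg_neg], mul_neg,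
      ← mul_assoc, hs, neg_mul, one_mul, neg_neg, add_comm]
  have keyc : ∀ {s t : R}, s * t = t * s → t * (1 + s) = (1 + s) * t := by
    intro s t hst
    rw [mul_add, mul_one, add_mul, one_mul, hst]
  refine ⟨fun h1 h2 => ?_, fun h1 h2 => ?_, fun h1 h2 => ?_, fun h1 h2 => ?_⟩
  · rw [hd, mul_assoc h]
    congr 1
    rw [mul_assoc, ← keyc h2, ← mul_assoc, ← keyc h1, mul_assoc]
  · rw [hd, mul_assoc h]
    congr 1
    rw [mul_assoc (1 + a), ← keyc h2, ← mul_assoc (1 + a), ← key ha h1, mul_assoc]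
  · rw [hd, mul_assoc h]
    congr 1
    have e1 : b * (1 + a) = (1 + a) * b := keyc hab
    calc (1 + a) * (1 + b) * d = (1 + a) * (b * d * (1 + b)) := by rw [key hb h2, mul_assoc]
      _ = (1 + a) * b * d * (1 + b) := by noncomm_ring
      _ = b * ((1 + a) * d) * (1 + b) := by rw [← e1]; noncomm_ring
      _ = b * d * ((1 + a) * (1 + b)) := by rw [← keyc h1]; noncomm_ring
  · rw [hd, mul_assoc h]
    congr 1
    have e1 : b * (1 + a) = (1 + a) * b := keyc hab
    calc (1 + a) * (1 + b) * d = (1 + a) * (b * d * (1 + b)) := by rw [key hb h2, mul_assoc]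
      _ = (1 + a) * b * d * (1 + b) := by noncomm_ring
      _ = b * ((1 + a) * d) * (1 + b) := by rw [← e1]; noncomm_ring
      _ = b * a * d * ((1 + a) * (1 + b)) := by rw [← key ha h1]; noncomm_ring
      _ = a * b * d * ((1 + a) * (1 + b)) := by rw [hab]

end Fin

/-- **the preimage of `D` is abelian** -/
theorem pa : PA := by
  intro F R S _ _ _ _ _ h2F σ I X π hF D x y hx hy
  by_contra hno
  push Not at hno
  have hD := hx.e16
  have hna : ∃ a b : X, π a ∈ D ∧ π b ∈ D ∧ a * b ≠ b * a := by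
    obtain ⟨a, b, ha, hb, hab⟩ := hno
    exact ⟨a, b, ha, hb, hab⟩
  -- the half
  obtain ⟨h, hc, h2⟩ : ∃ h : R, (∀ r, h * r = r * h) ∧ h * 2 = 1 := by
    refine ⟨algebraMap F R 2⁻¹, fun r => Algebra.commutes _ _, ?_⟩
    have e : (2 : R) = algebraMap F R 2 := by rw [map_ofNat]
    rw [e, ← map_mul, inv_mul_cancel₀ h2F, map_one]
  have hnt : Nontrivial R := by
    by_contra hn
    rw [not_nontrivial_iff_subsingleton] at hn
    obtain ⟨a, b, -, -, hab⟩ := hna
    exact hab (cc_inj (Subsingleton.elim _ _))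
  have hne : (1 : R) ≠ -1 := by
    intro h1
    have h3 : (2 : R) = 0 := by
      have : (1 : R) + 1 = 1 + -1 := by rw [← h1]
      rw [add_neg_cancel] at this
      rw [← this]; norm_num
    rw [h3, mul_zero] at h2
    exact zero_ne_one h2
  have hfS : Finite S := Finite.of_surjective π hF.surj
  obtain ⟨v, hv, hvv⟩ := exists_neg hF hD hna
  obtain ⟨g0, hg0, hcom, hvne⟩ := exists_pair hF hne hD hy hv hvv
  obtain ⟨v', hv'⟩ : ∃ v', v' = g0 * v * g0⁻¹ := ⟨_, rfl⟩
  rw [← hv'] at hcom hvne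
  have hv'D : π v' ∈ D := by rw [hv']; exact hg0 v hv
  have hvv' : cc v' * cc v' = -1 := by rw [hv']; exact sq_conj hvv
  have hn1 : ∀ {w : X}, cc w * cc w = -1 → π w ≠ 1 := by
    intro w hw h1
    have h3 : cc w = 1 ∨ cc w = -1 := hF.ker w h1
    apply hne
    rcases h3 with h3 | h3 <;> rw [h3] at hw <;> simpa using hw
  obtain ⟨d1, hd1, hanti1⟩ := exists_anti hF hD hy hna hv'D (hn1 hvv')
  obtain ⟨u, hu⟩ := exists_u hF hc h2 (v := v) (v' := v') (g := d1 * g0) hvv (by
    have e1 : cc g0 * cc v = cc v' * cc g0 := by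
      rw [← cc_mul, ← cc_mul, hv']; congr 1; group
    rw [cc_mul, mul_assoc, e1, ← mul_assoc, ← mul_assoc, hanti1, neg_mul, neg_neg])
  -- the action on the preimage
  have hact := fun d : R => act_u (d := d) hc hvv hvv' hcom hu
  have hcase : ∀ d : X, π d ∈ D → ∃ w : X, π w ∈ D ∧ u * d = w * d * u ∧
      (cc v * cc d = -(cc d * cc v) → w = v ∨ w = v * v') := by
    intro d hd
    rcases comm_or hF hD hv hd with h3 | h3 <;> rcases comm_or hF hD hv'D hd with h4 | h4
    · refine ⟨1, by rw [map_one]; exact D.one_mem, cc_inj ?_, fun h5 => ?_⟩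
      · rw [one_mul, cc_mul, cc_mul]; exact (hact _).1 h3 h4
      · exfalso
        rw [h3] at h5
        exact hne (by
          have h6 : cc d * cc v * (cc v⁻¹ * cc d⁻¹) = 1 := by
            rw [← cc_mul, ← cc_mul, ← cc_mul]
            have : d * v * (v⁻¹ * d⁻¹) = 1 := by group
            rw [this, cc_one]
          calc (1 : R) = cc d * cc v * (cc v⁻¹ * cc d⁻¹) := h6.symm
            _ = -(cc d * cc v) * (cc v⁻¹ * cc d⁻¹) := by rw [← h5]
            _ = -1 := by rw [neg_mul, h6])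
    · refine ⟨v', hv'D, cc_inj ?_, fun h5 => ?_⟩
      · rw [cc_mul, cc_mul, cc_mul]; exact (hact _).2.2.1 h3 h4
      · exfalso
        rw [h3] at h5
        exact hne (by
          have h6 : cc d * cc v * (cc v⁻¹ * cc d⁻¹) = 1 := by
            rw [← cc_mul, ← cc_mul, ← cc_mul]
            have : d * v * (v⁻¹ * d⁻¹) = 1 := by group
            rw [this, cc_one]
          calc (1 : R) = cc d * cc v * (cc v⁻¹ * cc d⁻¹) := h6.symm
            _ = -(cc d * cc v) * (cc v⁻¹ * cc d⁻¹) := by rw [← h5]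
            _ = -1 := by rw [neg_mul, h6])
    · refine ⟨v, hv, cc_inj ?_, fun _ => Or.inl rfl⟩
      rw [cc_mul, cc_mul, cc_mul]; exact (hact _).2.1 h3 h4
    · refine ⟨v * v', by rw [map_mul]; exact D.mul_mem hv hv'D, cc_inj ?_, fun _ => Or.inr rfl⟩
      rw [cc_mul, cc_mul, cc_mul, cc_mul]; exact (hact _).2.2.2 h3 h4
  -- `π u` is a 2-element of `C(x)` which normalises `D`
  have huu : cc (u * u) = cc (v * v') := by
    have hd : ∀ r s : R, r * (h * s) = h * (r * s) := fun r s => by rw [← mul_assoc, ← hc, mul_assoc]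
    have e1 : (1 + cc v) * (1 + cc v) = 2 * cc v := by
      calc (1 + cc v) * (1 + cc v) = 1 + 2 * cc v + cc v * cc v := by noncomm_ring
        _ = 2 * cc v := by rw [hvv]; noncomm_ring
    have e2 : (1 + cc v') * (1 + cc v') = 2 * cc v' := by
      calc (1 + cc v') * (1 + cc v') = 1 + 2 * cc v' + cc v' * cc v' := by noncomm_ring
        _ = 2 * cc v' := by rw [hvv']; noncomm_ring
    have e3 : (1 + cc v') * (1 + cc v) = (1 + cc v) * (1 + cc v') := by
      calc (1 + cc v') * (1 + cc v) = 1 + cc v + cc v' + cc v' * cc v := by noncomm_ring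
        _ = 1 + cc v + cc v' + cc v * cc v' := by rw [hcom]
        _ = (1 + cc v) * (1 + cc v') := by noncomm_ring
    rw [cc_mul, cc_mul, hu]
    calc h * ((1 + cc v) * (1 + cc v')) * (h * ((1 + cc v) * (1 + cc v')))
        = h * (h * ((1 + cc v) * (1 + cc v') * ((1 + cc v) * (1 + cc v')))) := by rw [hd, mul_assoc]
      _ = h * (h * ((1 + cc v) * (1 + cc v) * ((1 + cc v') * (1 + cc v')))) := by
          congr 2
          calc (1 + cc v) * (1 + cc v') * ((1 + cc v) * (1 + cc v'))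
              = (1 + cc v) * ((1 + cc v') * (1 + cc v)) * (1 + cc v') := by noncomm_ring
            _ = _ := by rw [e3]; noncomm_ring
      _ = h * (h * (2 * cc v * (2 * cc v'))) := by rw [e1, e2]
      _ = h * 2 * (h * 2) * (cc v * cc v') := by
          have e4 : 2 * cc v * (2 * cc v') = 2 * 2 * (cc v * cc v') := by noncomm_ring
          rw [e4]
          calc h * (h * (2 * 2 * (cc v * cc v'))) = h * (h * 2) * 2 * (cc v * cc v') := by noncomm_ring
            _ = h * 2 * (h * 2) * (cc v * cc v') := by simp only [h2, mul_one, one_mul]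
      _ = cc v * cc v' := by rw [h2, one_mul, one_mul]
  have huu' : π u * π u = π v * π v' := by rw [← map_mul, ← map_mul, cc_inj huu]
  have h4 : (π u) ^ 2 ^ 2 = 1 := by
    have e : (π u) ^ 2 ^ 2 = π u * π u * (π u * π u) := by
      rw [show (2 : ℕ) ^ 2 = 4 by norm_num]; simp only [pow_succ, pow_zero, one_mul, mul_assoc]
    rw [e, huu']
    exact hD.inv _ (D.mul_mem hv hv'D)
  have hord : ∃ k : ℕ, orderOf (π u) = 2 ^ k := by
    obtain ⟨k, -, hk⟩ := (Nat.dvd_prime_pow Nat.prime_two).1 (orderOf_dvd_of_pow_eq_one h4)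
    exact ⟨k, hk⟩
  obtain ⟨x', hx'⟩ := hF.surj x
  have hux : π u * x = x * π u := by
    have e1 := comm_x hF hne hx hx' hv
    have e2 := comm_x hF hne hx hx' hv'D
    have e3 : cc (u * x') = cc (x' * u) := by
      rw [cc_mul, cc_mul, hu]
      have f1 : cc x' * (1 + cc v) = (1 + cc v) * cc x' := by rw [mul_add, mul_one, add_mul, one_mul, e1]
      have f2 : cc x' * (1 + cc v') = (1 + cc v') * cc x' := by rw [mul_add, mul_one, add_mul, one_mul, e2]
      calc h * ((1 + cc v) * (1 + cc v')) * cc x' = h * ((1 + cc v) * ((1 + cc v') * cc x')) := by noncomm_ring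
        _ = h * ((1 + cc v) * cc x' * (1 + cc v')) := by rw [← f2]; noncomm_ring
        _ = h * (cc x') * ((1 + cc v) * (1 + cc v')) := by rw [← f1]; noncomm_ring
        _ = cc x' * (h * ((1 + cc v) * (1 + cc v'))) := by rw [hc, mul_assoc]
    rw [← hx', ← map_mul, ← map_mul, cc_inj e3]
  have hnorm : ∀ d ∈ D, π u * d * (π u)⁻¹ ∈ D := by
    intro d hd
    obtain ⟨δ, rfl⟩ := hF.surj d
    obtain ⟨w, hw, e, -⟩ := hcase δ hd
    have : π u * π δ * (π u)⁻¹ = π w * π δ := by
      rw [← map_mul, e, map_mul, map_mul]; group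
    rw [this]
    exact D.mul_mem hw hd
  have huD : π u ∈ D := (H215.KS.D3 hx).2.1 _ hord hux hnorm
  -- contradiction
  obtain ⟨δ, hδ, hanti⟩ := exists_anti hF hD hy hna hv (hn1 hvv)
  obtain ⟨w, hw, e, hw'⟩ := hcase δ hδ
  have h5 : π w = 1 := by
    have h6 : π u * π δ = π w * π δ * π u := by rw [← map_mul, e, map_mul, map_mul]
    have h7 := H215.KS.E16.comm hD _ huD _ hδ
    rw [h7, mul_assoc] at h6
    have h8 : π w * (π δ * π u) = 1 * (π δ * π u) := by rw [← h6, one_mul]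
    exact mul_right_cancel h8
  rcases hw' hanti with rfl | rfl
  · exact hn1 hvv h5
  · rw [map_mul] at h5
    apply hvne
    have h6 := hD.inv _ hv
    exact mul_left_cancel (h5.trans h6.symm)

end Cfsg.Agent.H5.KS
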